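import Groth.Agent.BigVol.Basic
import Groth.Agent.BigVol.CohBound
import Groth.Agent.BigVol.NumEquiv
import Groth.Agent.NumTriv.FiniteField
import Groth.Agent.NumTriv.Ample
import Groth.Agent.NumTriv.AmpleIff

/-!
The volume of an invertible module is unchanged by numerically trivial twists.
-/

set_option autoImplicit false
set_option linter.style.haveILetI false

open CategoryTheory CategoryTheory.Limits AlgebraicGeometry TopologicalSpace
open scoped ENNReal
open Filter

universe u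

noncomputable section

namespace Groth.Agent.VolNum

open ProjTwist ProjTwist.Pn BigVol BigVol.NumEquiv AmpleLib NumTriv

variable (k : Type u) [Field k] {X : Scheme.{u}} [X.Over (Spec (CommRingCat.of k))]
  [IsProper (X ↘ Spec (CommRingCat.of k))]

/-- One invertible module makes every numerically trivial module globally generated. -/
theorem exists_uniform_gg_twist {A : X.Modules} (hA : CohB1.IsAmple A) :
    ∃ C : X.Modules, PicF.IsInvertible C ∧
      ∀ M : X.Modules, NumTriv.Num1 k M → Curv2.IsGloballyGenerated (CohB1.tensorMod M C) := by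
  haveI := EulerChar.isNoetherian k (X := X)
  obtain ⟨n, i, hi, hw⟩ := NumTriv.exists_closedImmersion_of_ample (k := k) hA
  haveI := hi
  haveI := isLocallyNoetherian_projSpace n k
  obtain ⟨m, hm⟩ := NumTriv.FiniteField.exists_uniform_regular_any i hw
    (ProperFin.isCoh_structureModule X)
  refine ⟨oX i m, isInvertible_oX i m, fun M hM => ?_⟩
  have hc : Coh.IsCoh (CohB1.tensorMod (Coh.structureModule X) M) :=
    NumTriv.isCoh_tens k hM.1 (ProperFin.isCoh_structureModule X)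
  haveI := hc.1
  have h1 : Curv2.IsGloballyGenerated
      (Pic13.twistOn k i (CohB1.tensorMod (Coh.structureModule X) M) m) :=
    CMReg.isGloballyGenerated_twistOn i _ m (isGloballyGenerated_of_isMRegular
      (ProperFin.isCoh_push_of_isFinite i _ hc) (CMReg.isMRegular_push i (hm M hM)))
  exact CMReg.isGloballyGenerated_iso
    (tensCongr (oneTens M) (Iso.refl (oX i m)) :
      CohB1.tensorMod (CohB1.tensorMod (Coh.structureModule X) M) (oX i m) ≅ _) h1

variable [IsIntegral X]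

theorem exists_bound {A : X.Modules} (hA : CohB1.IsAmple A) {d : ℕ}
    (hd : topologicalKrullDim X = (d : WithBot ℕ∞)) {L N : X.Modules}
    (hL : PicF.IsInvertible L) (hN : NumTriv.Num1 k N) :
    ∃ C : ℕ, ∀ j : ℕ, h0 k (CohB1.tensorPow L j) ≤
      h0 k (CohB1.tensorPow (CohB1.tensorMod L N) j) + C * CohBound.g d j := by
  haveI := EulerChar.isNoetherian k (X := X)
  obtain ⟨Q, hQ, hgg⟩ := exists_uniform_gg_twist k hA
  obtain ⟨B, hB, ⟨eB⟩⟩ := PicLaw.exists_inverse hQ
  have hQs : Sub (Coh.structureModule X) Q :=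
    (sub_of_globallyGenerated (AmpleLib.isInvertible_tensorMod (NumTriv.num1_one k).1 hQ)
      (hgg _ (NumTriv.num1_one k))).iso (oneTens Q)
  obtain ⟨ψ, hψ⟩ : Sub B (Coh.structureModule X) :=
    ((Sub.of_iso (structure_tensor hB).some.symm).trans (hQs.tensor hB)).iso eB
  have hψ0 : ψ ≠ 0 := fun h0' => by
    subst h0'
    exact not_isZero_of_isInvertible hB (IsZero.of_mono_zero _ (Coh.structureModule X))
  have hlt := dim_support_cokernel_lt hB hd.le ψ hψ0
  have hcok : Coh.IsCoh (cokernel ψ) := CohDev.isCoh_cokernel ψ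
    (Groth.Agent.ProjTwist.isQCoh_of_isInvertible hB) (ProperFin.isCoh_structureModule X)
  have hLN := AmpleLib.isInvertible_tensorMod hL hN.1
  obtain ⟨C, hC⟩ := CohBound.exists_hh_lt k hA hLN d (CohB1.tensorMod (cokernel ψ) Q)
    (isCoh_tensor hQ hcok) (lt_of_le_of_lt (NumTriv.dim_support_tens_le _ _) hlt) 0
  refine ⟨C, fun j => ?_⟩
  let P := CohB1.tensorPow (CohB1.tensorMod L N) j
  let Lj := CohB1.tensorPow L j
  let Nj := CohB1.tensorPow N j
  have hP : PicF.IsInvertible P := isInvertible_tensorPow hLN j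
  have hPQ := AmpleLib.isInvertible_tensorMod hP hQ
  obtain ⟨eP⟩ := nonempty_tensorPow_tensor L N j
  have hNQ := AmpleLib.isInvertible_tensorMod (NumTriv.num1_pow k hN j).1 hQ
  have hsub : Sub Lj (CohB1.tensorMod P Q) := by
    refine ((Sub.of_iso (structure_tensor (isInvertible_tensorPow hL j)).some.symm).trans
      ((sub_of_globallyGenerated hNQ (hgg _ (NumTriv.num1_pow k hN j))).tensor
        (isInvertible_tensorPow hL j))).iso ?_
    exact tensAssoc Nj Q Lj ≪≫ tensCongr (Iso.refl Nj) (tensComm Q Lj) ≪≫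
      (tensAssoc Nj Lj Q).symm ≪≫ tensCongr (tensComm Nj Lj ≪≫ eP.symm) (Iso.refl Q)
  have h1 := h0_le_of_sub k (isCoh_of_isInvertible hPQ) hsub
  have h2 := h0_tensor_le k hB hPQ ψ hψ
  have e1 : CohB1.tensorMod B (CohB1.tensorMod P Q) ≅ P :=
    tensComm B _ ≪≫ tensAssoc P Q B ≪≫ tensCongr (Iso.refl P) eB ≪≫ tensOne P
  have e2 : CohB1.tensorMod (cokernel ψ) (CohB1.tensorMod P Q) ≅
      CohB1.tensorMod (CohB1.tensorMod (cokernel ψ) Q) P :=
    tensCongr (Iso.refl (cokernel ψ)) (tensComm P Q) ≪≫ (tensAssoc (cokernel ψ) Q P).symm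
  have h3 : h0 k (CohB1.tensorMod B (CohB1.tensorMod P Q)) = h0 k P := Pn.finrank_hh_iso e1 0
  have h4 : h0 k (CohB1.tensorMod (cokernel ψ) (CohB1.tensorMod P Q)) =
      h0 k (CohB1.tensorMod (CohB1.tensorMod (cokernel ψ) Q) P) := Pn.finrank_hh_iso e2 0
  have h5 : h0 k (CohB1.tensorMod (CohB1.tensorMod (cokernel ψ) Q) P) ≤ C * CohBound.g d j := hC j
  show h0 k Lj ≤ h0 k P + _
  omega

theorem limsup_le {A : X.Modules} (hA : CohB1.IsAmple A) {d : ℕ}
    (hd : topologicalKrullDim X = (d : WithBot ℕ∞)) {L N : X.Modules}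
    (hL : PicF.IsInvertible L) (hN : NumTriv.Num1 k N) :
    limsup (f k L d) atTop ≤ limsup (f k (CohB1.tensorMod L N) d) atTop := by
  obtain ⟨C, hC⟩ := exists_bound k hA hd hL hN
  have ht : Tendsto (fun m : ℕ => ((C * 2 ^ d : ℕ) : ℝ≥0∞) / (m : ℝ≥0∞)) atTop (nhds 0) := by
    simpa using ENNReal.Tendsto.const_div ENNReal.tendsto_nat_nhds_top
      (a := ((C * 2 ^ d : ℕ) : ℝ≥0∞)) (Or.inr (ENNReal.natCast_ne_top _))
  refine (limsup_le_limsup (v := fun m => f k (CohB1.tensorMod L N) d m +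
    ((C * 2 ^ d : ℕ) : ℝ≥0∞) / (m : ℝ≥0∞)) ?_).trans ?_
  · filter_upwards [eventually_ge_atTop 1] with m hm
    have hm0 : (m : ℝ≥0∞) ≠ 0 := by exact_mod_cast Nat.one_le_iff_ne_zero.mp hm
    have hmt : (m : ℝ≥0∞) ≠ ⊤ := ENNReal.natCast_ne_top m
    have hnat : m * (C * CohBound.g d m) ≤ C * 2 ^ d * m ^ d := by
      calc m * (C * CohBound.g d m) = C * (m * CohBound.g d m) := by ring
        _ ≤ C * ((m + 1) * CohBound.g d m) :=
            Nat.mul_le_mul_left _ (Nat.mul_le_mul_right _ (Nat.le_succ m))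
        _ ≤ C * (m + 1) ^ d := Nat.mul_le_mul_left _ (CohBound.g_mul d m)
        _ ≤ C * (2 * m) ^ d := Nat.mul_le_mul_left _ (Nat.pow_le_pow_left (by omega) d)
        _ = C * 2 ^ d * m ^ d := by rw [mul_pow]; ring
    simp only [f]
    refine (ENNReal.div_le_div_right (Nat.cast_le.mpr (hC m)) _).trans ?_
    rw [Nat.cast_add, ENNReal.add_div]
    refine add_le_add le_rfl ?_
    rw [ENNReal.le_div_iff_mul_le (Or.inl hm0) (Or.inl hmt), mul_comm, ← mul_div_assoc,
      ENNReal.div_le_iff_le_mul (Or.inl (pow_ne_zero _ hm0))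
        (Or.inl (ENNReal.pow_ne_top hmt))]
    exact_mod_cast hnat
  · refine ENNReal.le_of_forall_pos_le_add fun ε hε _ => ?_
    have hε' : ∀ᶠ m : ℕ in atTop, ((C * 2 ^ d : ℕ) : ℝ≥0∞) / (m : ℝ≥0∞) ≤ (ε : ℝ≥0∞) :=
      ht.eventually (eventually_le_nhds (ENNReal.coe_pos.mpr hε))
    refine (limsup_le_limsup (hε'.mono fun m hm => add_le_add le_rfl hm)).trans (le_of_eq ?_)
    exact limsup_add_const atTop (f k (CohB1.tensorMod L N) d) (ε : ℝ≥0∞)
      (by isBoundedDefault) (by isBoundedDefault)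

theorem limsup_eq {A : X.Modules} (hA : CohB1.IsAmple A) {d : ℕ}
    (hd : topologicalKrullDim X = (d : WithBot ℕ∞)) {L N : X.Modules}
    (hL : PicF.IsInvertible L) (hN : NumTriv.Num1 k N) :
    limsup (f k (CohB1.tensorMod L N) d) atTop = limsup (f k L d) atTop := by
  refine le_antisymm ?_ (limsup_le k hA hd hL hN)
  obtain ⟨N', hN', ⟨e⟩⟩ := NumTriv.num1_exists_inverse k hN
  refine (limsup_le k hA hd (AmpleLib.isInvertible_tensorMod hL hN.1) hN').trans (le_of_eq ?_)
  have eL : CohB1.tensorMod (CohB1.tensorMod L N) N' ≅ L :=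
    tensAssoc L N N' ≪≫ tensCongr (Iso.refl L) (tensComm N N' ≪≫ e) ≪≫ tensOne L
  congr 1
  funext m
  obtain ⟨em⟩ := FormalFun.nonempty_tensorPow_congr eL m
  show (_ : ℝ≥0∞) / _ = _ / _
  rw [Pn.finrank_hh_iso em 0]

end Groth.Agent.VolNum
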